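import Mathlib.RingTheory.Smooth.Basic

/-!
# The square-zero extension attached to a symmetric two-cocycle
-/

universe u v

namespace GrothLib.CocycleExt

variable {A : Type u} {B : Type v} [CommRing A] [CommRing B] [Algebra A B] {L : Type v}
  [AddCommGroup L] [Module B L] [Module A L] [IsScalarTower A B L]

/-- The bundled data of a symmetric cocycle. -/
structure Cocycle (A : Type u) (B L : Type v) [CommRing A] [CommRing B] [Algebra A B] [AddCommGroup L]
    [Module B L] [Module A L] where
  /-- The underlying bilinear map. -/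
  toFun : B →ₗ[A] B →ₗ[A] L
  symm : ∀ x y : B, toFun x y = toFun y x
  coc : ∀ x y z : B, toFun (x * y) z + z • toFun x y = x • toFun y z + toFun x (y * z)

/-- The carrier of the extension attached to a cocycle. -/
@[nolint unusedArguments]
def Ext (_c : Cocycle A B L) : Type v := B × L

variable (c : Cocycle A B L)

instance : AddCommGroup (Ext c) := inferInstanceAs (AddCommGroup (B × L))

instance : One (Ext c) := ⟨((1, -c.toFun 1 1) : B × L)⟩

instance : Mul (Ext c) :=
  ⟨fun x y => ((x.1 * y.1, x.1 • y.2 + y.1 • x.2 + c.toFun x.1 y.1) : B × L)⟩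

theorem ext' {x y : Ext c} (h₁ : x.1 = y.1) (h₂ : x.2 = y.2) : x = y := Prod.ext h₁ h₂

theorem fun_one (y : B) : c.toFun 1 y = y • c.toFun 1 1 := by
  have h := c.coc 1 1 y
  rw [one_mul, one_mul, one_smul] at h
  exact (add_left_cancel h).symm

theorem one_mul' (x : Ext c) : 1 * x = x := by
  refine ext' c (one_mul x.1) ?_
  change (1 : B) • x.2 + x.1 • (-c.toFun 1 1) + c.toFun 1 x.1 = x.2
  rw [one_smul, smul_neg, fun_one c x.1]
  abel

theorem mul_comm' (x y : Ext c) : x * y = y * x := by
  refine ext' c (mul_comm x.1 y.1) ?_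
  change x.1 • y.2 + y.1 • x.2 + c.toFun x.1 y.1 = y.1 • x.2 + x.1 • y.2 + c.toFun y.1 x.1
  rw [c.symm, add_comm (x.1 • y.2)]

theorem left_distrib' (x y z : Ext c) : x * (y + z) = x * y + x * z := by
  refine ext' c (mul_add x.1 y.1 z.1) ?_
  change x.1 • (y.2 + z.2) + (y.1 + z.1) • x.2 + c.toFun x.1 (y.1 + z.1) =
    (x.1 • y.2 + y.1 • x.2 + c.toFun x.1 y.1) + (x.1 • z.2 + z.1 • x.2 + c.toFun x.1 z.1)
  rw [smul_add, add_smul, map_add]
  abel

theorem mul_assoc' (x y z : Ext c) : x * y * z = x * (y * z) := by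
  refine ext' c (mul_assoc x.1 y.1 z.1) ?_
  change (x.1 * y.1) • z.2 + z.1 • (x.1 • y.2 + y.1 • x.2 + c.toFun x.1 y.1) + c.toFun (x.1 * y.1) z.1 =
    x.1 • (y.1 • z.2 + z.1 • y.2 + c.toFun y.1 z.1) + (y.1 * z.1) • x.2 + c.toFun x.1 (y.1 * z.1)
  rw [smul_add, smul_add, smul_add, smul_add, smul_smul, smul_smul, smul_smul, smul_smul,
    mul_comm z.1 x.1, mul_comm z.1 y.1]
  have h := c.coc x.1 y.1 z.1
  rw [← eq_sub_iff_add_eq] at h
  rw [h]
  abel

theorem zero_mul' (x : Ext c) : 0 * x = 0 := by
  refine ext' c (zero_mul x.1) ?_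
  change (0 : B) • x.2 + x.1 • (0 : L) + c.toFun 0 x.1 = 0
  simp

instance : CommRing (Ext c) :=
  { (inferInstance : AddCommGroup (Ext c)), (inferInstance : Mul (Ext c)), (inferInstance : One (Ext c)) with
    left_distrib := left_distrib' c
    right_distrib := fun x y z => by
      rw [mul_comm' c, left_distrib' c, mul_comm' c z x, mul_comm' c z y]
    zero_mul := zero_mul' c
    mul_zero := fun x => by rw [mul_comm' c, zero_mul' c]
    mul_assoc := mul_assoc' c
    one_mul := one_mul' c
    mul_one := fun x => by rw [mul_comm' c, one_mul' c]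
    mul_comm := mul_comm' c }

/-- The structure map of the extension. -/
def base : A →+* Ext c where
  toFun a := ((algebraMap A B a, -(a • c.toFun 1 1)) : B × L)
  map_one' := ext' c (map_one (algebraMap A B)) (by
    change -((1 : A) • c.toFun 1 1) = -c.toFun 1 1
    rw [one_smul])
  map_zero' := ext' c (map_zero (algebraMap A B)) (by
    change -((0 : A) • c.toFun 1 1) = 0
    rw [zero_smul, neg_zero])
  map_add' a b := ext' c (map_add (algebraMap A B) a b) (by
    change -((a + b) • c.toFun 1 1) = -(a • c.toFun 1 1) + -(b • c.toFun 1 1)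
    rw [add_smul, neg_add])
  map_mul' a b := ext' c (map_mul (algebraMap A B) a b) (by
    change -((a * b) • c.toFun 1 1) = algebraMap A B a • -(b • c.toFun 1 1) +
      algebraMap A B b • -(a • c.toFun 1 1) + c.toFun (algebraMap A B a) (algebraMap A B b)
    rw [Algebra.algebraMap_eq_smul_one a, Algebra.algebraMap_eq_smul_one b, map_smul, LinearMap.map_smul₂,
      smul_neg, smul_neg, smul_one_smul, smul_one_smul, smul_smul, smul_smul, mul_comm b a]
    abel)

instance : Algebra A (Ext c) := (base c).toAlgebra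

/-- The projection of the extension. -/
def proj : Ext c →ₐ[A] B where
  toFun x := x.1
  map_one' := rfl
  map_mul' _ _ := rfl
  map_zero' := rfl
  map_add' _ _ := rfl
  commutes' _ := rfl

theorem exists_cobound [Algebra.FormallySmooth A B] :
    ∃ g : B →ₗ[A] L, ∀ x y : B, c.toFun x y = x • g y - g (x * y) + y • g x := by
  have hnil : IsNilpotent (RingHom.ker (proj c).toRingHom) := by
    refine ⟨2, ?_⟩
    rw [pow_two, Ideal.zero_eq_bot, eq_bot_iff, Ideal.mul_le]
    intro x hx y hy
    have hx' : x.1 = 0 := RingHom.mem_ker.1 hx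
    have hy' : y.1 = 0 := RingHom.mem_ker.1 hy
    refine Ideal.mem_bot.2 (ext' c ?_ ?_)
    · change x.1 * y.1 = 0
      rw [hx', zero_mul]
    · change x.1 • y.2 + y.1 • x.2 + c.toFun x.1 y.1 = 0
      rw [hx', hy']
      simp
  have hsurj : Function.Surjective (proj c) := fun b => ⟨((b, 0) : B × L), rfl⟩
  let e := Ideal.quotientKerAlgEquivOfSurjective hsurj
  let s : B →ₐ[A] Ext c := Algebra.FormallySmooth.lift _ hnil e.symm.toAlgHom
  have hs : ∀ b, (s b).1 = b := fun b =>
    (congrArg e (Algebra.FormallySmooth.mk_lift _ hnil e.symm.toAlgHom b)).trans (e.apply_symm_apply b)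
  let g : B →ₗ[A] L :=
    { toFun := fun b => -(s b).2
      map_add' := fun x y => by
        rw [map_add]
        change -((s x).2 + (s y).2) = _
        rw [neg_add]
      map_smul' := fun a x => by
        rw [Algebra.smul_def, map_mul, s.commutes, RingHom.id_apply]
        change -(algebraMap A B a • (s x).2 + (s x).1 • -(a • c.toFun 1 1) + c.toFun (algebraMap A B a) (s x).1) =
          a • -(s x).2
        rw [algebraMap_smul, Algebra.algebraMap_eq_smul_one, LinearMap.map_smul₂, fun_one c (s x).1, smul_neg,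
          smul_neg, smul_comm a (s x).1]
        abel }
  refine ⟨g, fun x y => ?_⟩
  have h := congrArg (fun z : Ext c => z.2) (map_mul s x y)
  change (s (x * y)).2 = (s x).1 • (s y).2 + (s y).1 • (s x).2 + c.toFun (s x).1 (s y).1 at h
  rw [hs, hs] at h
  change c.toFun x y = x • -(s y).2 - -(s (x * y)).2 + y • -(s x).2
  rw [h, smul_neg, smul_neg]
  abel

end GrothLib.CocycleExt
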